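import Cfsg.Agent.H621.CT.OrthNum
import Cfsg.Agent.Nodes.RGDClass
import Cfsg.Agent.S0292
import Cfsg.Agent.S0293
import Cfsg.Agent.S0294
import Cfsg.Agent.S2094
import Cfsg.Agent.S2096
import Cfsg.Agent.S2097
import Cfsg.Agent.S2099

/-!
# `Fit` for the simple orthogonal groups

`fit_pomega_odd`, `fit_pomega_plus`, `fit_pomega_minus`.
-/

set_option autoImplicit false

namespace Cfsg.Agent.H621.CT

open Cfsg Cfsg.Agent.H682.CT

universe u v

theorem char_dvd {F : Type} [Field F] [Fintype F] {r : ℕ} [CharP F r] : r ∣ Fintype.card F := by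
  rw [← CharP.cast_eq_zero_iff F r]
  exact FiniteField.cast_card_eq_zero F

/-- Sylow subgroups for a prime dividing the order once -/
theorem cyclic_of_sq {S : Type u} [Group S] [Finite S] {p : ℕ} (hp : p.Prime) (h : ¬ p ^ 2 ∣ Nat.card S)
    (P : Sylow p S) : IsCyclic P :=
  cyclic_of_factorization_le_one hp (by
    by_contra hlt
    exact h ((hp.pow_dvd_iff_le_factorization Nat.card_pos.ne').2 (by omega))) P

theorem fit_pomega_odd {S : Type u} [Group S] [Finite S] [IsSimpleGroup S] (hna : ¬ ∀ a b : S, a * b = b * a)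
    (h : IsPOmegaOdd S) : Fit.{u, v} S := by
  obtain ⟨F, _, _, m, hm, ho, ⟨e⟩⟩ := h
  obtain ⟨r, hr⟩ := CharP.exists F
  have hr' : r.Prime := CharP.char_is_prime F r
  have hq : 2 ≤ Fintype.card F := Fintype.one_lt_card
  have hcard : 2 * Nat.card S = Fintype.card F ^ (m ^ 2) *
      ∏ i ∈ Finset.range m, (Fintype.card F ^ (2 * (i + 1)) - 1) := by
    rw [Nat.card_congr e.toEquiv]
    exact S0292.result rfl ho m hm
  by_cases hexc : m = 3 ∧ Fintype.card F = 3
  · -- `PΩ₇(3)`
    obtain ⟨rfl, h3⟩ := hexc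
    rw [h3] at hcard
    have hc : Nat.card S = 4585351680 := by
      simp only [Finset.prod_range_succ, Finset.prod_range_zero] at hcard
      omega
    refine fit_of_two hna (p₁ := 7) (p₂ := 13) (by norm_num) (by norm_num) (by norm_num)
      (by rw [hc]; norm_num) (by rw [hc]; norm_num) (cyclic_of_sq (by norm_num) (by rw [hc]; norm_num))
      (cyclic_of_sq (by norm_num) (by rw [hc]; norm_num))
  · have hd : ∀ k : ℕ, k < m → ∀ p : ℕ, p.Prime → 5 ≤ p → p ∣ Fintype.card F ^ (2 * (k + 1)) - 1 →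
        p ∣ Nat.card S := by
      intro k hk p hp h5 hpd
      refine dvd_of_mul hp h5 (c := 2) (by norm_num) hcard (Dvd.dvd.mul_left ?_ _)
      exact hpd.trans (Finset.dvd_prod_of_mem (fun i => Fintype.card F ^ (2 * (i + 1)) - 1)
        (Finset.mem_range.2 hk))
    refine fit_of_mult hna e hr' (Nodes.RGDClass.hasRGD_of_POmegaOdd ⟨F, inferInstance, inferInstance, hr, m, hm, ho, ⟨e⟩⟩)
      (S2094.result rfl ho m hm hexc) (by simp) hq char_dvd (hd 1 (by omega)) ?_
    intro p hp h5 hpd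
    refine hd 2 (by omega) p hp h5 (hpd.trans ?_)
    exact Nat.pow_sub_one_dvd_pow_sub_one _ (by norm_num)

theorem fit_pomega_plus {S : Type u} [Group S] [Finite S] [IsSimpleGroup S] (hna : ¬ ∀ a b : S, a * b = b * a)
    (h : IsPOmegaPlus S) : Fit.{u, v} S := by
  obtain ⟨F, _, _, m, hm, ⟨e⟩⟩ := h
  obtain ⟨r, hr⟩ := CharP.exists F
  have hr' : r.Prime := CharP.char_is_prime F r
  have hq : 2 ≤ Fintype.card F := Fintype.one_lt_card
  have hcard : Nat.gcd 4 (Fintype.card F ^ m - 1) * Nat.card S = Fintype.card F ^ (m * (m - 1)) *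
      (Fintype.card F ^ m - 1) * ∏ i ∈ Finset.range (m - 1), (Fintype.card F ^ (2 * (i + 1)) - 1) := by
    rw [Nat.card_congr e.toEquiv]
    exact S0293.result rfl m hm
  by_cases hexc : m = 4 ∧ Fintype.card F = 2
  · -- `PΩ⁺₈(2)`
    obtain ⟨rfl, h3⟩ := hexc
    rw [h3] at hcard
    have hc : Nat.card S = 174182400 := by
      simp only [Finset.prod_range_succ, Finset.prod_range_zero] at hcard
      norm_num at hcard
      omega
    have hf : (Nat.card S).factorization 7 = 1 := by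
      have h1 : ¬ 2 ≤ (Nat.card S).factorization 7 := fun hlt => by
        have := ((by norm_num : Nat.Prime 7).pow_dvd_iff_le_factorization (Nat.card_pos (α := S)).ne').2 hlt
        rw [hc] at this
        norm_num at this
      have h2 : 1 ≤ (Nat.card S).factorization 7 :=
        ((by norm_num : Nat.Prime 7).pow_dvd_iff_le_factorization (Nat.card_pos (α := S)).ne').1 (by
          rw [hc]; norm_num)
      omega
    refine fit_of_not_dvd hna (p := 7) (by norm_num) (by rw [hc]; norm_num)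
      (cyclic_of_sq (by norm_num) (by rw [hc]; norm_num)) ?_
    rw [hf, hc]
    decide
  · have hd : ∀ k : ℕ, k < m - 1 → ∀ p : ℕ, p.Prime → 5 ≤ p → p ∣ Fintype.card F ^ (2 * (k + 1)) - 1 →
        p ∣ Nat.card S := by
      intro k hk p hp h5 hpd
      refine dvd_of_mul hp h5 (Nat.gcd_dvd_left 4 _) hcard (Dvd.dvd.mul_left ?_ _)
      exact hpd.trans (Finset.dvd_prod_of_mem (fun i => Fintype.card F ^ (2 * (i + 1)) - 1)
        (Finset.mem_range.2 hk))
    have hd3 : ∀ p : ℕ, p.Prime → 5 ≤ p → p ∣ Fintype.card F ^ 3 - 1 → p ∣ Nat.card S := fun p hp h5 hpd =>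
      hd 2 (by omega) p hp h5 (hpd.trans (Nat.pow_sub_one_dvd_pow_sub_one _ (by norm_num)))
    have hS : Nodes.RGDChev.HasRGD r S := Nodes.RGDClass.hasRGD_of_POmegaPlus ⟨F, inferInstance, inferInstance, hr, m, hm, ⟨e⟩⟩
    rcases Nat.even_or_odd m with he | hodd
    · have h2 : 0 < Nat.gcd 2 (Fintype.card F ^ m - 1) := Nat.gcd_pos_of_pos_left _ (by norm_num)
      have : NeZero (Nat.gcd 2 (Fintype.card F ^ m - 1)) := ⟨h2.ne'⟩
      refine fit_of_mult hna e hr' hS (S2097.result rfl m hm he hexc) ?_ hq char_dvd (hd 1 (by omega)) hd3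
      have h3 : Nat.gcd 2 (Fintype.card F ^ m - 1) ∣ 2 := Nat.gcd_dvd_left _ _
      have h4 : Nat.card (Multiplicative (ZMod (Nat.gcd 2 (Fintype.card F ^ m - 1)) ×
          ZMod (Nat.gcd 2 (Fintype.card F ^ m - 1)))) =
          Nat.gcd 2 (Fintype.card F ^ m - 1) * Nat.gcd 2 (Fintype.card F ^ m - 1) := by
        rw [Nat.card_congr Multiplicative.toAdd, Nat.card_prod, Nat.card_zmod]
      rw [h4]
      exact (Nat.mul_dvd_mul h3 h3).trans (by norm_num)
    · have h2 : 0 < Nat.gcd 4 (Fintype.card F ^ m - 1) := Nat.gcd_pos_of_pos_left _ (by norm_num)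
      have : NeZero (Nat.gcd 4 (Fintype.card F ^ m - 1)) := ⟨h2.ne'⟩
      have h5 : 5 ≤ m := by
        rcases hm.lt_or_eq with h | h
        · exact h
        · exfalso
          rw [← h] at hodd
          revert hodd
          decide
      refine fit_of_mult hna e hr' hS (S2096.result rfl m h5 hodd) ?_ hq char_dvd (hd 1 (by omega)) hd3
      rw [Nat.card_congr Multiplicative.toAdd, Nat.card_zmod]
      exact (Nat.gcd_dvd_left 4 _).trans (by norm_num)

theorem fit_pomega_minus {S : Type u} [Group S] [Finite S] [IsSimpleGroup S] (hna : ¬ ∀ a b : S, a * b = b * a)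
    (h : IsPOmegaMinus S) : Fit.{u, v} S := by
  obtain ⟨F, _, _, m, a, b, hm, hab, ⟨e⟩⟩ := h
  obtain ⟨r, hr⟩ := CharP.exists F
  have hr' : r.Prime := CharP.char_is_prime F r
  have hq : 2 ≤ Fintype.card F := Fintype.one_lt_card
  have hcard : Nat.gcd 4 (Fintype.card F ^ m + 1) * Nat.card S = Fintype.card F ^ (m * (m - 1)) *
      (Fintype.card F ^ m + 1) * ∏ i ∈ Finset.range (m - 1), (Fintype.card F ^ (2 * (i + 1)) - 1) := by
    rw [Nat.card_congr e.toEquiv]
    exact S0294.result rfl m hm a b hab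
  have hd : ∀ k : ℕ, k < m - 1 → ∀ p : ℕ, p.Prime → 5 ≤ p → p ∣ Fintype.card F ^ (2 * (k + 1)) - 1 →
      p ∣ Nat.card S := by
    intro k hk p hp h5 hpd
    refine dvd_of_mul hp h5 (Nat.gcd_dvd_left 4 _) hcard (Dvd.dvd.mul_left ?_ _)
    exact hpd.trans (Finset.dvd_prod_of_mem (fun i => Fintype.card F ^ (2 * (i + 1)) - 1)
      (Finset.mem_range.2 hk))
  have hd3 : ∀ p : ℕ, p.Prime → 5 ≤ p → p ∣ Fintype.card F ^ 3 - 1 → p ∣ Nat.card S := fun p hp h5 hpd =>
    hd 2 (by omega) p hp h5 (hpd.trans (Nat.pow_sub_one_dvd_pow_sub_one _ (by norm_num)))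
  have h2 : 0 < Nat.gcd 4 (Fintype.card F ^ m + 1) := Nat.gcd_pos_of_pos_left _ (by norm_num)
  have : NeZero (Nat.gcd 4 (Fintype.card F ^ m + 1)) := ⟨h2.ne'⟩
  refine fit_of_mult hna e hr' (Nodes.RGDClass.hasRGD_of_POmegaMinus ⟨F, inferInstance, inferInstance, hr, m, a, b, hm, hab, ⟨e⟩⟩)
    (S2099.result rfl m hm a b hab) ?_ hq char_dvd (hd 1 (by omega)) hd3
  rw [Nat.card_congr Multiplicative.toAdd, Nat.card_zmod]
  exact (Nat.gcd_dvd_left 4 _).trans (by norm_num)

end Cfsg.Agent.H621.CT
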