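import Cfsg.Agent.H682.CT.LieFit
import Cfsg.Agent.Lib.Zsigmondy

/-!
# `Fit` from the Schur multiplier: two primes of order `3` and `4` modulo `q`
-/

set_option autoImplicit false

namespace Cfsg.Agent.H621.CT

open Cfsg.Agent.H682.CT

universe u v w

/-- `p` does not divide the order of the Schur multiplier -/
theorem noExt_of_mult_card {p : ℕ} (hp : p.Prime) {Q : Type u} [Group Q] (hQ : commutator Q = ⊤) {A : Type w}
    [CommGroup A] [Finite A] (h : Cfsg.HasSchurMultiplier Q A) (hn : ¬ p ∣ Nat.card A) : NoExt.{u, v} p Q := by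
  have : Fact p.Prime := ⟨hp⟩
  refine NoExt.univ.{u, v, u} (noExt_of_stem hQ fun D _ _ σ hσ hz hD hpk => ?_)
  obtain ⟨π, hπ⟩ := h.2 D σ ⟨hσ, hz, by rw [hD]; exact le_top⟩
  obtain ⟨k, hk⟩ := IsPGroup.iff_card.1 hpk
  have h1 : Nat.card σ.ker ∣ Nat.card A := Subgroup.card_dvd_of_surjective π hπ
  rw [hk] at h1
  rcases Nat.eq_zero_or_pos k with rfl | hk0
  · rw [pow_zero] at hk
    exact Subgroup.card_eq_one.1 hk
  · exact absurd (dvd_trans (dvd_pow_self p hk0.ne') h1) hn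

/-- primes of order `3` and `4` modulo `q` -/
theorem exists_primes {q : ℕ} (hq : 2 ≤ q) : ∃ p₁ p₂ : ℕ, p₁.Prime ∧ p₂.Prime ∧ p₁ ≠ p₂ ∧ 5 ≤ p₁ ∧ 5 ≤ p₂ ∧
    ¬ p₁ ∣ q ∧ ¬ p₂ ∣ q ∧ p₁ ∣ q ^ 4 - 1 ∧ p₂ ∣ q ^ 3 - 1 := by
  obtain ⟨p₁, hp₁, h1, h1', h1q⟩ := Cfsg.Agent.Lib.Zsigmondy.exists_primitive hq (n := 4) (by norm_num)
    (fun h => absurd h (by norm_num)) (fun h => absurd h.2 (by norm_num))
  obtain ⟨p₂, hp₂, h2, h2', h2q⟩ := Cfsg.Agent.Lib.Zsigmondy.exists_primitive hq (n := 3) (by norm_num)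
    (fun h => absurd h (by norm_num)) (fun h => absurd h.2 (by norm_num))
  have e1 := hp₁.two_le
  have e2 := hp₂.two_le
  refine ⟨p₁, p₂, hp₁, hp₂, ?_, ?_, ?_, h1q, h2q, (h1 4).2 dvd_rfl, (h2 3).2 dvd_rfl⟩
  · rintro rfl
    have := (h1 3).1 ((h2 3).2 dvd_rfl)
    revert this
    decide
  · obtain ⟨k, hk⟩ := h1'
    have : k ≠ 0 := by rintro rfl; omega
    omega
  · obtain ⟨k, hk⟩ := h2'
    have : k ≠ 0 := by rintro rfl; omega
    by_contra hlt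
    have h4 : p₂ = 4 := by omega
    rw [h4] at hp₂
    revert hp₂
    decide

/-- a prime divisor, cancelling a small factor -/
theorem dvd_of_mul {p c N m : ℕ} (hp : p.Prime) (h5 : 5 ≤ p) (hc : c ∣ 4) (h : c * N = m) (hd : p ∣ m) : p ∣ N := by
  rw [← h] at hd
  rcases hp.dvd_mul.1 hd with h1 | h1
  · exfalso
    have := Nat.le_of_dvd (by norm_num) (h1.trans hc)
    omega
  · exact h1

/-- the final criterion: a model with a Schur multiplier of order dividing `16` -/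
theorem fit_of_mult {S : Type u} [Group S] [Finite S] [IsSimpleGroup S] (hna : ¬ ∀ a b : S, a * b = b * a)
    {G : Type w} [Group G] (e : S ≃* G) {r : ℕ} (hr : r.Prime) (hS : Nodes.RGDChev.HasRGD r S) {A : Type w}
    [CommGroup A] [Finite A] (hM : Cfsg.HasSchurMultiplier G A) (hA : Nat.card A ∣ 16)
    {q : ℕ} (hq : 2 ≤ q) (hrq : r ∣ q)
    (h4 : ∀ p : ℕ, p.Prime → 5 ≤ p → p ∣ q ^ 4 - 1 → p ∣ Nat.card S)
    (h3 : ∀ p : ℕ, p.Prime → 5 ≤ p → p ∣ q ^ 3 - 1 → p ∣ Nat.card S) : Fit.{u, v} S := by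
  obtain ⟨p₁, p₂, hp₁, hp₂, hne, e₁, e₂, hq₁, hq₂, hd₁, hd₂⟩ := exists_primes hq
  have hperf := commutator_eq_top hna
  have hperf' : commutator G = ⊤ := by
    have h1 : (commutator S).map e.toMonoidHom = commutator G := by
      rw [_root_.commutator_def S, Subgroup.map_commutator, ← MonoidHom.range_eq_map,
        MonoidHom.range_eq_top.2 e.surjective, ← _root_.commutator_def]
    rw [← h1, hperf, ← MonoidHom.range_eq_map, MonoidHom.range_eq_top.2 e.surjective]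
  have hne' : ∀ p : ℕ, p.Prime → 5 ≤ p → NoExt.{u, v} p S := by
    intro p hp h5
    refine NoExt.congr e.symm (noExt_of_mult_card hp hperf' hM fun hpA => ?_)
    have h1 : p ∣ 2 ^ 4 := hpA.trans hA
    have h2 := (Nat.prime_dvd_prime_iff_eq hp Nat.prime_two).1 (hp.dvd_of_dvd_pow h1)
    omega
  exact fit_of_rgd hna hr hS hp₁ hp₂ hne (fun h => hq₁ (h ▸ hrq)) (fun h => hq₂ (h ▸ hrq))
    (h4 _ hp₁ e₁ hd₁) (h3 _ hp₂ e₂ hd₂) (hne' _ hp₁ e₁) (hne' _ hp₂ e₂)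

end Cfsg.Agent.H621.CT
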